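import Cfsg.Agent.H336.LinFour.Def

/-!
# Counting for `Sit` in groups with a large extraspecial subgroup (S1918) (helper462)

`card_le` : `T v`, `v ∈ F₂⁴`, commuting involutions of a module `M` over `F₂`, `T a0 = 1`; `R w d` assigns to each fixed
vector `w` a functional `d` vanishing on `a0`, faithfully, such that `R (T v x + x) d` implies `d(v) = 0`. Then
`|M| ≤ 2 ^ 7`.
-/

set_option autoImplicit false

namespace Cfsg.Agent.H462.LinFour

open Cfsg.Agent.H336.LinFour

/-- the marked vector -/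
def a0 : V := Pi.single 0 1

/-- the standard vectors -/
def e (i : Fin 4) : V := Pi.single i 1

theorem a0_ne : a0 ≠ 0 := by
  intro h
  have := congrFun h 0
  simp [a0] at this

theorem dt_e (d : V) (i : Fin 4) : dt d (e i) = d i := by
  fin_cases i <;> simp [dt, e]

theorem dt_a0 (d : V) : dt d a0 = d 0 := dt_e d 0

theorem v_eq (v : V) : v = v 0 • a0 + v 1 • e 1 + v 2 • e 2 + v 3 • e 3 := by
  funext i
  fin_cases i <;> simp [a0, e]

theorem eq_zero_of_coords {d : V} (h0 : dt d a0 = 0) (h1 : dt d (e 1) = 0) (h2 : dt d (e 2) = 0)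
    (h3 : dt d (e 3) = 0) : d = 0 := by
  rw [dt_a0] at h0
  rw [dt_e] at h1 h2 h3
  funext i
  fin_cases i
  · exact h0
  · exact h1
  · exact h2
  · exact h3

theorem m_add_self {M : Type*} [AddCommGroup M] [Module (ZMod 2) M] (w : M) : w + w = 0 := by
  have h1 : (2 : ZMod 2) • w = w + w := two_smul _ w
  have h2 : (2 : ZMod 2) = 0 := by decide
  rw [← h1, h2, zero_smul]

theorem ncard_le_mul {M N : Type*} [AddCommGroup M] [Module (ZMod 2) M] [Finite M] [Finite N] (f : M → N)
    (S S' : Set M) (h : ∀ x ∈ S, ∀ y ∈ S, f x = f y → x + y ∈ S') : S.ncard ≤ Nat.card N * S'.ncard := by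
  classical
  let c : N → M := fun n => if hn : ∃ y ∈ S, f y = n then hn.choose else 0
  have hc : ∀ x ∈ S, c (f x) ∈ S ∧ f (c (f x)) = f x := fun x hx => by
    have hn : ∃ y ∈ S, f y = f x := ⟨x, hx, rfl⟩
    change (if hn : ∃ y ∈ S, f y = f x then hn.choose else 0) ∈ S ∧
      f (if hn : ∃ y ∈ S, f y = f x then hn.choose else 0) = f x
    rw [dif_pos hn]
    exact hn.choose_spec
  let F : S → N × S' := fun x => (f x, ⟨x + c (f x), h _ x.2 _ (hc x x.2).1 (hc x x.2).2.symm⟩)
  have hF : Function.Injective F := by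
    intro x y hxy
    have h2 : f x = f y := congrArg Prod.fst hxy
    have h3 : (x : M) + c (f x) = y + c (f y) := congrArg (fun t => (t.2 : M)) hxy
    rw [h2] at h3
    exact Subtype.ext (add_right_cancel h3)
  have := Nat.card_le_card_of_injective F hF
  rwa [Nat.card_prod, Nat.card_coe_set_eq, Nat.card_coe_set_eq] at this

section

variable {M : Type*} [AddCommGroup M] [Module (ZMod 2) M] (T : V → M →ₗ[ZMod 2] M) (R : M → V → Prop)

/-- `T v + 1` -/
def D (v : V) : M →ₗ[ZMod 2] M := T v + LinearMap.id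

theorem D_apply (v : V) (w : M) : D T v w = T v w + w := rfl

variable (T_add : ∀ u v w, T (u + v) w = T u (T v w)) (T_zero : ∀ w, T 0 w = w) (T_a : ∀ w, T a0 w = w)
  (R_ex : ∀ w, (∀ v, T v w = w) → ∃ d, R w d) (R_add : ∀ w w' d d', R w d → R w' d' → R (w + w') (d + d'))
  (R_zero : ∀ w, R w 0 → w = 0) (R_uniq : ∀ d, R 0 d → d = 0) (R_a : ∀ w d, R w d → dt d a0 = 0)
  (R_alt : ∀ x v d, R (T v x + x) d → dt d v = 0)

include T_add T_zero in
theorem D_self (v : V) (w : M) : D T v (D T v w) = 0 := by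
  rw [D_apply, D_apply, map_add, ← T_add, v_add_self, T_zero]
  have h1 : w + T v w + (T v w + w) = (w + w) + (T v w + T v w) := by abel
  rw [h1, m_add_self, m_add_self, add_zero]

include T_add in
theorem D_comm (u v : V) (w : M) : D T u (D T v w) = D T v (D T u w) := by
  rw [D_apply, D_apply, D_apply, D_apply, map_add, map_add, ← T_add, ← T_add, add_comm u v]
  abel

include T_add in
theorem D_add (u v : V) (w : M) : D T (u + v) w = D T u (D T v w) + D T u w + D T v w := by
  rw [D_apply, D_apply, D_apply, D_apply, map_add, ← T_add]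
  have h1 : T (u + v) w + T u w + (T v w + w) + (T u w + w) + (T v w + w) =
      T (u + v) w + w + (T u w + T u w) + (T v w + T v w) + (w + w) := by abel
  rw [h1, m_add_self, m_add_self, m_add_self, add_zero, add_zero, add_zero]

/-- fixed vectors -/
def P (w : M) : Prop := D T (e 1) w = 0 ∧ D T (e 2) w = 0 ∧ D T (e 3) w = 0

include T_add T_zero T_a in
theorem fix_of_P {w : M} (h : P T w) (v : V) : T v w = w := by
  have h1 : ∀ u, D T u w = 0 → T u w = w := by
    intro u hu
    have h2 : T u w + w + w = w := by rw [← D_apply, hu, zero_add]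
    rwa [add_assoc, m_add_self, add_zero] at h2
  have hs : ∀ (c : ZMod 2) (u : V), T u w = w → T (c • u) w = w := by
    intro c u hu
    rcases z2 c with rfl | rfl
    · rw [zero_smul, T_zero]
    · rw [one_smul, hu]
  rw [v_eq v, T_add, hs _ _ (h1 _ h.2.2), T_add, hs _ _ (h1 _ h.2.1), T_add, hs _ _ (h1 _ h.1), hs _ _ (T_a w)]

open Classical in
/-- the functional of a fixed vector -/
noncomputable def lam (w : M) : V := if h : ∃ d, R w d then h.choose else 0

include T_add T_zero T_a R_ex in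
theorem lam_spec {w : M} (h : P T w) : R w (lam R w) := by
  have h1 : ∃ d, R w d := R_ex w (fix_of_P T T_add T_zero T_a h)
  rw [lam, dif_pos h1]
  exact h1.choose_spec

include R_add R_uniq in
theorem R_unique {w : M} {d d' : V} (h : R w d) (h' : R w d') : d = d' := by
  have h1 := R_add _ _ _ _ h h'
  rw [m_add_self] at h1
  exact (add_eq_zero_iff _ _).1 (R_uniq _ h1)

include T_add T_zero in
theorem P_add {w w' : M} (h : P T w) (h' : P T w') : P T (w + w') := by
  refine ⟨?_, ?_, ?_⟩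
  · rw [map_add, h.1, h'.1, add_zero]
  · rw [map_add, h.2.1, h'.2.1, add_zero]
  · rw [map_add, h.2.2, h'.2.2, add_zero]

include T_add T_zero T_a R_ex R_add R_uniq in
theorem lam_add {w w' : M} (h : P T w) (h' : P T w') : lam R (w + w') = lam R w + lam R w' := by
  refine R_unique R R_add R_uniq (lam_spec T R T_add T_zero T_a R_ex (P_add T T_add T_zero h h')) ?_
  exact R_add _ _ _ _ (lam_spec T R T_add T_zero T_a R_ex h) (lam_spec T R T_add T_zero T_a R_ex h')

include T_add T_zero T_a R_ex R_zero R_a in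
theorem eq_zero_of_lam {w : M} (h : P T w) (h1 : dt (lam R w) (e 1) = 0) (h2 : dt (lam R w) (e 2) = 0)
    (h3 : dt (lam R w) (e 3) = 0) : w = 0 := by
  have h4 := lam_spec T R T_add T_zero T_a R_ex h
  have h5 : lam R w = 0 := eq_zero_of_coords (R_a _ _ h4) h1 h2 h3
  rw [h5] at h4
  exact R_zero _ h4

include T_add T_zero T_a R_ex R_alt in
/-- alternating -/
theorem lam_alt {v : V} {x : M} (h : P T (D T v x)) : dt (lam R (D T v x)) v = 0 :=
  R_alt x v _ (lam_spec T R T_add T_zero T_a R_ex h)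

include T_add T_zero T_a R_ex R_add R_uniq R_alt in
/-- symmetric -/
theorem lam_symm {u v : V} {x : M} (hu : P T (D T u x)) (hv : P T (D T v x)) (huv : D T u (D T v x) = 0) :
    dt (lam R (D T u x)) v = dt (lam R (D T v x)) u := by
  have h1 : D T (u + v) x = D T u x + D T v x := by rw [D_add T T_add, huv, zero_add]
  have h2 : P T (D T (u + v) x) := by rw [h1]; exact P_add T T_add T_zero hu hv
  have h3 := lam_alt T R T_add T_zero T_a R_ex R_alt h2
  rw [h1, lam_add T R T_add T_zero T_a R_ex R_add R_uniq hu hv, dt_add_left, dt_add, dt_add,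
    lam_alt T R T_add T_zero T_a R_ex R_alt hu, lam_alt T R T_add T_zero T_a R_ex R_alt hv, zero_add, add_zero] at h3
  rcases z2 (dt (lam R (D T u x)) v) with h4 | h4 <;> rcases z2 (dt (lam R (D T v x)) u) with h5 | h5
  · rw [h4, h5]
  · rw [h4, h5] at h3; exact absurd h3 (by decide)
  · rw [h4, h5] at h3; exact absurd h3 (by decide)
  · rw [h4, h5]

include T_add T_zero T_a R_ex R_zero R_a R_alt in
/-- triple products vanish -/
theorem triple (x : M) : D T (e 1) (D T (e 2) (D T (e 3) x)) = 0 := by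
  set y := D T (e 1) (D T (e 2) (D T (e 3) x)) with hy
  have hy2 : y = D T (e 2) (D T (e 1) (D T (e 3) x)) := D_comm T T_add _ _ _
  have hy3 : y = D T (e 3) (D T (e 1) (D T (e 2) x)) := by
    rw [hy, D_comm T T_add (e 2) (e 3), D_comm T T_add (e 1) (e 3)]
  have hP : P T y := by
    refine ⟨?_, ?_, ?_⟩
    · rw [hy, D_self T T_add T_zero]
    · rw [hy2, D_self T T_add T_zero]
    · rw [hy3, D_self T T_add T_zero]
  refine eq_zero_of_lam T R T_add T_zero T_a R_ex R_zero R_a hP ?_ ?_ ?_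
  · rw [hy] at hP ⊢
    exact lam_alt T R T_add T_zero T_a R_ex R_alt hP
  · rw [hy2] at hP ⊢
    exact lam_alt T R T_add T_zero T_a R_ex R_alt hP
  · rw [hy3] at hP ⊢
    exact lam_alt T R T_add T_zero T_a R_ex R_alt hP

include T_add T_zero T_a R_ex R_add R_zero R_uniq R_a R_alt in
/-- **The count.** -/
theorem card_le [Finite M] : Nat.card M ≤ 2 ^ 7 := by
  have hself := D_self T T_add T_zero
  have hcomm := D_comm T T_add
  have htri := triple T R T_add T_zero T_a R_ex R_zero R_a R_alt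
  have hladd := fun {w w' : M} => lam_add (w := w) (w' := w') T R T_add T_zero T_a R_ex R_add R_uniq
  have halt := fun {v : V} {x : M} => lam_alt (v := v) (x := x) T R T_add T_zero T_a R_ex R_alt
  have hsymm := fun {u v : V} {x : M} =>
    lam_symm (u := u) (v := v) (x := x) T R T_add T_zero T_a R_ex R_add R_uniq R_alt
  have hzero := fun {w : M} => eq_zero_of_lam (w := w) T R T_add T_zero T_a R_ex R_zero R_a
  -- permuted triples
  have ht213 : ∀ x, D T (e 2) (D T (e 1) (D T (e 3) x)) = 0 := fun x => by rw [hcomm]; exact htri x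
  have ht132 : ∀ x, D T (e 1) (D T (e 3) (D T (e 2) x)) = 0 := fun x => by rw [hcomm (e 3) (e 2)]; exact htri x
  have ht312 : ∀ x, D T (e 3) (D T (e 1) (D T (e 2) x)) = 0 := fun x => by rw [hcomm (e 3) (e 1)]; exact ht132 x
  have ht231 : ∀ x, D T (e 2) (D T (e 3) (D T (e 1) x)) = 0 := fun x => by rw [hcomm (e 3) (e 1)]; exact ht213 x
  have ht321 : ∀ x, D T (e 3) (D T (e 2) (D T (e 1) x)) = 0 := fun x => by rw [hcomm (e 2) (e 1)]; exact ht312 x
  -- double products are fixed
  have P12 : ∀ x, P T (D T (e 1) (D T (e 2) x)) := fun x =>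
    ⟨hself _ _, by rw [hcomm (e 1) (e 2)]; exact hself _ _, ht312 x⟩
  have P21 : ∀ x, P T (D T (e 2) (D T (e 1) x)) := fun x => by rw [hcomm]; exact P12 x
  have P13 : ∀ x, P T (D T (e 1) (D T (e 3) x)) := fun x =>
    ⟨hself _ _, ht213 x, by rw [hcomm (e 1) (e 3)]; exact hself _ _⟩
  have P31 : ∀ x, P T (D T (e 3) (D T (e 1) x)) := fun x => by rw [hcomm]; exact P13 x
  have P23 : ∀ x, P T (D T (e 2) (D T (e 3) x)) := fun x =>
    ⟨htri x, hself _ _, by rw [hcomm (e 2) (e 3)]; exact hself _ _⟩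
  have P32 : ∀ x, P T (D T (e 3) (D T (e 2) x)) := fun x => by rw [hcomm]; exact P23 x
  let V2 : Set M := {x | D T (e 1) (D T (e 2) x) = 0 ∧ D T (e 1) (D T (e 3) x) = 0 ∧ D T (e 2) (D T (e 3) x) = 0}
  let V1 : Set M := {x | P T x}
  -- step 1
  have s1 : (Set.univ : Set M).ncard ≤ Nat.card (ZMod 2) * V2.ncard := by
    refine ncard_le_mul (fun x => dt (lam R (D T (e 1) (D T (e 2) x))) (e 3)) _ _ ?_
    intro x _ y _ hxy
    set w := x + y with hw
    have h0 : dt (lam R (D T (e 1) (D T (e 2) w))) (e 3) = 0 := by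
      rw [hw, map_add, map_add, hladd (P12 x) (P12 y), dt_add_left]
      change dt (lam R (D T (e 1) (D T (e 2) x))) (e 3) = dt (lam R (D T (e 1) (D T (e 2) y))) (e 3) at hxy
      rw [hxy, z2_add_self]
    have h12 : D T (e 1) (D T (e 2) w) = 0 := by
      refine hzero (P12 w) (halt (P12 w)) ?_ h0
      rw [hcomm (e 1) (e 2)]
      exact halt (P21 w)
    have h21 : D T (e 2) (D T (e 1) w) = 0 := by rw [hcomm]; exact h12
    have hl0 : lam R (0 : M) = 0 := by
      have hP0 : P T (0 : M) := ⟨map_zero _, map_zero _, map_zero _⟩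
      exact R_uniq _ (lam_spec T R T_add T_zero T_a R_ex hP0)
    have h13 : D T (e 1) (D T (e 3) w) = 0 := by
      refine hzero (P13 w) (halt (P13 w)) ?_ ?_
      · have h5 := hsymm (u := e 2) (v := e 3) (x := D T (e 1) w) (P21 w) (P31 w) (ht231 w)
        rw [h21, hl0, dt_zero_left] at h5
        rw [hcomm (e 1) (e 3)]
        exact h5.symm
      · rw [hcomm (e 1) (e 3)]
        exact halt (P31 w)
    have h23 : D T (e 2) (D T (e 3) w) = 0 := by
      refine hzero (P23 w) ?_ (halt (P23 w)) ?_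
      · have h5 := hsymm (u := e 1) (v := e 3) (x := D T (e 2) w) (P12 w) (P32 w) (ht132 w)
        rw [h12, hl0, dt_zero_left] at h5
        rw [hcomm (e 2) (e 3)]
        exact h5.symm
      · rw [hcomm (e 2) (e 3)]
        exact halt (P32 w)
    exact ⟨h12, h13, h23⟩
  -- step 2
  have s2 : V2.ncard ≤ Nat.card (ZMod 2 × ZMod 2 × ZMod 2) * V1.ncard := by
    refine ncard_le_mul (fun x => (dt (lam R (D T (e 1) x)) (e 2), dt (lam R (D T (e 1) x)) (e 3),
      dt (lam R (D T (e 2) x)) (e 3))) _ _ ?_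
    have hP1 : ∀ x ∈ V2, P T (D T (e 1) x) := fun x hx =>
      ⟨hself _ _, by rw [hcomm]; exact hx.1, by rw [hcomm]; exact hx.2.1⟩
    have hP2 : ∀ x ∈ V2, P T (D T (e 2) x) := fun x hx =>
      ⟨hx.1, hself _ _, by rw [hcomm]; exact hx.2.2⟩
    have hP3 : ∀ x ∈ V2, P T (D T (e 3) x) := fun x hx => ⟨hx.2.1, hx.2.2, hself _ _⟩
    intro x hx y hy hxy
    have e1 : dt (lam R (D T (e 1) x)) (e 2) = dt (lam R (D T (e 1) y)) (e 2) := congrArg (fun t => t.1) hxy
    have e2 : dt (lam R (D T (e 1) x)) (e 3) = dt (lam R (D T (e 1) y)) (e 3) := congrArg (fun t => t.2.1) hxy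
    have e3 : dt (lam R (D T (e 2) x)) (e 3) = dt (lam R (D T (e 2) y)) (e 3) := congrArg (fun t => t.2.2) hxy
    have hw : x + y ∈ V2 := by
      refine ⟨?_, ?_, ?_⟩
      · rw [map_add, map_add, hx.1, hy.1, add_zero]
      · rw [map_add, map_add, hx.2.1, hy.2.1, add_zero]
      · rw [map_add, map_add, hx.2.2, hy.2.2, add_zero]
    have f1 : dt (lam R (D T (e 1) (x + y))) (e 2) = 0 := by
      rw [map_add, hladd (hP1 x hx) (hP1 y hy), dt_add_left, e1, z2_add_self]
    have f2 : dt (lam R (D T (e 1) (x + y))) (e 3) = 0 := by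
      rw [map_add, hladd (hP1 x hx) (hP1 y hy), dt_add_left, e2, z2_add_self]
    have f3 : dt (lam R (D T (e 2) (x + y))) (e 3) = 0 := by
      rw [map_add, hladd (hP2 x hx) (hP2 y hy), dt_add_left, e3, z2_add_self]
    have g1 : D T (e 1) (x + y) = 0 := hzero (hP1 _ hw) (halt (hP1 _ hw)) f1 f2
    have g2 : D T (e 2) (x + y) = 0 := by
      refine hzero (hP2 _ hw) ?_ (halt (hP2 _ hw)) f3
      rw [← hsymm (u := e 1) (v := e 2) (hP1 _ hw) (hP2 _ hw) hw.1]
      exact f1
    have g3 : D T (e 3) (x + y) = 0 := by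
      refine hzero (hP3 _ hw) ?_ ?_ (halt (hP3 _ hw))
      · rw [← hsymm (u := e 1) (v := e 3) (hP1 _ hw) (hP3 _ hw) hw.2.1]
        exact f2
      · rw [← hsymm (u := e 2) (v := e 3) (hP2 _ hw) (hP3 _ hw) hw.2.2]
        exact f3
    exact ⟨g1, g2, g3⟩
  -- step 3
  have s3 : V1.ncard ≤ Nat.card (ZMod 2 × ZMod 2 × ZMod 2) * ({0} : Set M).ncard := by
    refine ncard_le_mul (fun x => (dt (lam R x) (e 1), dt (lam R x) (e 2), dt (lam R x) (e 3))) _ _ ?_
    intro x hx y hy hxy
    have e1 : dt (lam R x) (e 1) = dt (lam R y) (e 1) := congrArg (fun t => t.1) hxy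
    have e2 : dt (lam R x) (e 2) = dt (lam R y) (e 2) := congrArg (fun t => t.2.1) hxy
    have e3 : dt (lam R x) (e 3) = dt (lam R y) (e 3) := congrArg (fun t => t.2.2) hxy
    rw [Set.mem_singleton_iff]
    refine hzero (P_add T T_add T_zero hx hy) ?_ ?_ ?_
    · rw [hladd hx hy, dt_add_left, e1, z2_add_self]
    · rw [hladd hx hy, dt_add_left, e2, z2_add_self]
    · rw [hladd hx hy, dt_add_left, e3, z2_add_self]
  have c2 : Nat.card (ZMod 2) = 2 := by simp
  have c8 : Nat.card (ZMod 2 × ZMod 2 × ZMod 2) = 8 := by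
    rw [Nat.card_prod, Nat.card_prod, c2]
  rw [Set.ncard_univ, c2] at s1
  rw [c8] at s2 s3
  rw [Set.ncard_singleton] at s3
  omega

end

end Cfsg.Agent.H462.LinFour
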